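import Mathlib

/-! Serre's avoidance lemma for sections of finitely presented modules on the maximal spectrum, and
splitting off free summands. -/

set_option autoImplicit false
set_option linter.style.haveILetI false

namespace Groth.Agent.SerreSplit

universe u

variable {R : Type u} [CommRing R] {M : Type u} [AddCommGroup M] [Module R M]

noncomputable instance fieldQuot (x : MaximalSpectrum R) : Field (R ⧸ x.asIdeal) :=
  haveI := x.isMaximal
  Ideal.Quotient.field _

abbrev Bq (x : MaximalSpectrum R) :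
    Submodule (R ⧸ x.asIdeal) (M ⧸ (x.asIdeal • ⊤ : Submodule R M)) :=
  Submodule.span (R ⧸ x.asIdeal)
    ((x.asIdeal • ⊤ : Submodule R M).mkQ '' {m : M | ∀ φ : M →ₗ[R] R, φ m ∈ x.asIdeal})

abbrev V (M : Type u) [AddCommGroup M] [Module R M] (x : MaximalSpectrum R) :=
  (M ⧸ (x.asIdeal • ⊤ : Submodule R M)) ⧸ (Bq (M := M) x)

abbrev img (x : MaximalSpectrum R) (m : M) : V M x :=
  (Bq x).mkQ ((x.asIdeal • ⊤ : Submodule R M).mkQ m)

theorem img_add (x : MaximalSpectrum R) (m m' : M) : img x (m + m') = img x m + img x m' := by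
  simp [img, map_add]

theorem img_zero (x : MaximalSpectrum R) : img x (0 : M) = 0 := by simp [img]

theorem img_smul (x : MaximalSpectrum R) (r : R) (m : M) :
    img x (r • m) = Ideal.Quotient.mk x.asIdeal r • img x m := by
  rw [img, img, map_smul]
  exact (Bq x).mkQ.map_smul (Ideal.Quotient.mk x.asIdeal r) ((x.asIdeal • ⊤ : Submodule R M).mkQ m)

theorem img_sum (x : MaximalSpectrum R) {ι : Type*} (s : Finset ι) (f : ι → M) :
    img x (∑ i ∈ s, f i) = ∑ i ∈ s, img x (f i) := by
  simp [img, map_sum]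

theorem img_surjective (x : MaximalSpectrum R) : Function.Surjective (img (M := M) x) :=
  (Bq x).mkQ_surjective.comp (Submodule.mkQ_surjective _)

theorem apply_mem_of_mem_smul_top (x : MaximalSpectrum R) {m : M}
    (hm : m ∈ (x.asIdeal • ⊤ : Submodule R M)) (φ : M →ₗ[R] R) : φ m ∈ x.asIdeal := by
  refine Submodule.smul_induction_on hm (fun r hr n _ => ?_) (fun a b ha hb => ?_)
  · rw [map_smul, smul_eq_mul]; exact Ideal.mul_mem_right _ _ hr
  · rw [map_add]; exact add_mem ha hb

theorem img_eq_zero_iff (x : MaximalSpectrum R) (m : M) :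
    img x m = 0 ↔ ∀ φ : M →ₗ[R] R, φ m ∈ x.asIdeal := by
  constructor
  · intro h
    rw [img, Submodule.mkQ_apply, Submodule.Quotient.mk_eq_zero] at h
    have key : ∀ q ∈ Bq (M := M) x, ∃ w, (∀ φ : M →ₗ[R] R, φ w ∈ x.asIdeal) ∧
        (x.asIdeal • ⊤ : Submodule R M).mkQ w = q := by
      intro q hq
      refine Submodule.span_induction (fun q hq => hq) ⟨0, fun φ => by simp, by simp⟩ ?_ ?_ hq
      · rintro a b - - ⟨w, hw, rfl⟩ ⟨w', hw', rfl⟩
        exact ⟨w + w', fun φ => by rw [map_add]; exact add_mem (hw φ) (hw' φ), by rw [map_add]⟩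
      · rintro c a - ⟨w, hw, rfl⟩
        obtain ⟨r, rfl⟩ := Ideal.Quotient.mk_surjective c
        exact ⟨r • w, fun φ => by rw [map_smul, smul_eq_mul]; exact Ideal.mul_mem_left _ _ (hw φ), rfl⟩
    obtain ⟨w, hw, hwm⟩ := key _ h
    intro φ
    have h1 : m - w ∈ (x.asIdeal • ⊤ : Submodule R M) := by
      rw [← Submodule.Quotient.eq]; exact hwm.symm
    have h2 := add_mem (apply_mem_of_mem_smul_top x h1 φ) (hw φ)
    rwa [← map_add, sub_add_cancel] at h2
  · intro h
    rw [img, Submodule.mkQ_apply, Submodule.Quotient.mk_eq_zero]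
    exact Submodule.subset_span ⟨m, h, rfl⟩

theorem indep_iff_exists_det (x : MaximalSpectrum R) {h : ℕ} (s : Fin h → M) :
    LinearIndependent (R ⧸ x.asIdeal) (fun i => img x (s i)) ↔
      ∃ φ : Fin h → M →ₗ[R] R, (Matrix.of fun i j => φ i (s j)).det ∉ x.asIdeal := by
  classical
  constructor
  · intro hli
    let ev : (M →ₗ[R] R) → (Fin h → R ⧸ x.asIdeal) := fun φ j => Ideal.Quotient.mk _ (φ (s j))
    have hev : ∀ q ∈ Submodule.span (R ⧸ x.asIdeal) (Set.range ev), ∃ φ, ev φ = q := by
      intro q hq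
      refine Submodule.span_induction (fun q hq => hq) ⟨0, funext fun j => by simp [ev]⟩ ?_ ?_ hq
      · rintro a b - - ⟨φ, rfl⟩ ⟨ψ, rfl⟩
        exact ⟨φ + ψ, funext fun j => by simp [ev]⟩
      · rintro c a - ⟨φ, rfl⟩
        obtain ⟨r, rfl⟩ := Ideal.Quotient.mk_surjective c
        exact ⟨r • φ, funext fun j => by simp [ev]⟩
    have htop : Submodule.span (R ⧸ x.asIdeal) (Set.range ev) = ⊤ := by
      by_contra hne
      obtain ⟨f, hf0, hfle⟩ := Submodule.exists_le_ker_of_lt_top _ (lt_top_iff_ne_top.2 hne)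
      choose a ha using fun j => Ideal.Quotient.mk_surjective (f (Pi.single j 1))
      have h0 : img x (∑ j, a j • s j) = 0 := by
        rw [img_eq_zero_iff]
        intro φ
        have h1 : f (ev φ) = 0 := hfle (Submodule.subset_span ⟨φ, rfl⟩)
        rw [← Ideal.Quotient.eq_zero_iff_mem, ← h1, map_sum, map_sum]
        rw [LinearMap.pi_apply_eq_sum_univ f (ev φ)]
        refine Finset.sum_congr rfl fun j _ => ?_
        rw [map_smul, smul_eq_mul, map_mul, ha, smul_eq_mul, mul_comm]
        congr 2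
        funext i
        simp [Pi.single_apply, eq_comm]
      rw [img_sum] at h0
      simp only [img_smul] at h0
      have hz := Fintype.linearIndependent_iff.1 hli _ h0
      refine hf0 (LinearMap.pi_ext' fun j => LinearMap.ext_ring ?_)
      simpa [ha] using hz j
    choose φ hφ using fun i : Fin h => hev (Pi.single i 1) (htop ▸ Submodule.mem_top)
    refine ⟨φ, fun hmem => ?_⟩
    rw [← Ideal.Quotient.eq_zero_iff_mem, RingHom.map_det] at hmem
    have : (Ideal.Quotient.mk x.asIdeal).mapMatrix (Matrix.of fun i j => φ i (s j)) = 1 := by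
      ext i j
      rw [Matrix.one_apply]
      show ev (φ i) j = _
      rw [hφ, Pi.single_apply]
      simp [eq_comm]
    rw [this, Matrix.det_one] at hmem
    exact one_ne_zero hmem
  · rintro ⟨φ, hφ⟩
    rw [Fintype.linearIndependent_iff]
    intro g hg
    choose a ha using fun j => Ideal.Quotient.mk_surjective (g j)
    have h0 : img x (∑ j, a j • s j) = 0 := by
      rw [img_sum, ← hg]
      exact Finset.sum_congr rfl fun j _ => by rw [img_smul, ha]
    rw [img_eq_zero_iff] at h0
    set A := (Ideal.Quotient.mk x.asIdeal).mapMatrix (Matrix.of fun i j => φ i (s j))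
    have hA : IsUnit A.det := by
      rw [← RingHom.map_det]
      exact isUnit_iff_ne_zero.2 fun h => hφ (Ideal.Quotient.eq_zero_iff_mem.1 h)
    have hAg : A.mulVec g = 0 := by
      funext i
      rw [Pi.zero_apply, ← Ideal.Quotient.eq_zero_iff_mem.2 (h0 (φ i)), map_sum, map_sum,
        Matrix.mulVec, dotProduct]
      refine Finset.sum_congr rfl fun j _ => ?_
      rw [map_smul, smul_eq_mul, map_mul, ha, mul_comm]
      rfl
    intro i
    have := congrArg (A⁻¹).mulVec hAg
    rw [Matrix.mulVec_mulVec, Matrix.nonsing_inv_mul _ hA, Matrix.one_mulVec, Matrix.mulVec_zero] at this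
    rw [this]; rfl

theorem isClosed_not_indep {h : ℕ} (s : Fin h → M) :
    IsClosed {x : MaximalSpectrum R | ¬ LinearIndependent (R ⧸ x.asIdeal) (fun i => img x (s i))} := by
  rw [← isOpen_compl_iff]
  have : {x : MaximalSpectrum R | ¬ LinearIndependent (R ⧸ x.asIdeal) (fun i => img x (s i))}ᶜ =
      ⋃ φ : Fin h → M →ₗ[R] R, MaximalSpectrum.toPrimeSpectrum ⁻¹'
        (PrimeSpectrum.basicOpen (Matrix.of fun i j => φ i (s j)).det : Set (PrimeSpectrum R)) := by
    ext x
    simp only [Set.mem_compl_iff, Set.mem_setOf_eq, not_not, Set.mem_iUnion, Set.mem_preimage,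
      SetLike.mem_coe, PrimeSpectrum.mem_basicOpen]
    exact indep_iff_exists_det x s
  rw [this]
  exact isOpen_iUnion fun φ =>
    (PrimeSpectrum.basicOpen _).isOpen.preimage MaximalSpectrum.toPrimeSpectrum_continuous

theorem exists_scalar (P : Finset (MaximalSpectrum R)) (a : MaximalSpectrum R → R) :
    ∃ r : R, ∀ p ∈ P, Ideal.Quotient.mk p.asIdeal r = Ideal.Quotient.mk p.asIdeal (a p) := by
  classical
  have hco : Pairwise (Function.onFun IsCoprime fun p : P => p.1.asIdeal) := fun p q hpq => by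
    rw [Function.onFun, Ideal.isCoprime_iff_sup_eq]
    exact p.1.isMaximal.coprime_of_ne q.1.isMaximal fun h => hpq (Subtype.ext (MaximalSpectrum.ext h))
  obtain ⟨r, hr⟩ := Ideal.exists_forall_sub_mem_ideal hco (fun p => a p.1)
  exact ⟨r, fun p hp => Ideal.Quotient.eq.2 (hr ⟨p, hp⟩)⟩

theorem exists_congr (P : Finset (MaximalSpectrum R)) (w : MaximalSpectrum R → M) :
    ∃ t : M, ∀ p ∈ P, img p t = img p (w p) := by
  classical
  choose e he using fun q : MaximalSpectrum R => exists_scalar P (fun p => if p = q then (1 : R) else 0)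
  refine ⟨∑ q ∈ P, e q • w q, fun p hp => ?_⟩
  rw [img_sum, Finset.sum_eq_single p]
  · rw [img_smul, he p p hp, if_pos rfl, map_one, one_smul]
  · intro q _ hqp
    rw [img_smul, he q p hp, if_neg (Ne.symm hqp), map_zero, zero_smul]
  · exact fun h => absurd hp h

theorem img_snoc (x : MaximalSpectrum R) {h : ℕ} (s : Fin h → M) (t : M) :
    (fun i => img x (Fin.snoc (α := fun _ => M) s t i)) =
      Fin.snoc (α := fun _ => V M x) (fun i => img x (s i)) (img x t) :=
  Fin.comp_snoc (img x) s t

theorem exists_indep_snoc (x : MaximalSpectrum R) {h : ℕ} (s : Fin h → M)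
    (hs : LinearIndependent (R ⧸ x.asIdeal) (fun i => img x (s i)))
    (hd : h < Module.finrank (R ⧸ x.asIdeal) (V M x)) :
    ∃ v : M, LinearIndependent (R ⧸ x.asIdeal)
      (Fin.snoc (α := fun _ => V M x) (fun i => img x (s i)) (img x v)) := by
  have hne : Submodule.span (R ⧸ x.asIdeal) (Set.range fun i => img x (s i)) ≠ ⊤ := by
    intro htop
    have h1 := finrank_span_eq_card hs
    rw [htop, finrank_top, Fintype.card_fin] at h1
    omega
  obtain ⟨v, hv⟩ : ∃ v, v ∉ Submodule.span (R ⧸ x.asIdeal) (Set.range fun i => img x (s i)) := by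
    by_contra h
    push Not at h
    exact hne (eq_top_iff.2 fun y _ => h y)
  obtain ⟨v, rfl⟩ := img_surjective x v
  exact ⟨v, linearIndependent_finSnoc.2 ⟨hs, hv⟩⟩

variable [TopologicalSpace.NoetherianSpace (MaximalSpectrum R)]

/-- Serre's avoidance statement. -/
theorem main : ∀ (k h : ℕ) (s : Fin h → M) (F : Set (MaximalSpectrum R)), IsClosed F →
    ∀ (P : Finset (MaximalSpectrum R)), (P : Set (MaximalSpectrum R)) ⊆ F →
    ∀ (w : MaximalSpectrum R → M),
    (∀ x : MaximalSpectrum R, h + k ≤ Module.finrank (R ⧸ x.asIdeal) (V M x)) →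
    (∀ x : MaximalSpectrum R, ¬ LinearIndependent (R ⧸ x.asIdeal) (fun i => img x (s i)) → x ∈ F) →
    ∃ (t : M) (F' : Set (MaximalSpectrum R)), IsClosed F' ∧
      (∀ p ∈ P, img p t = img p (w p)) ∧
      (∀ x : MaximalSpectrum R, ¬ LinearIndependent (R ⧸ x.asIdeal)
        (Fin.snoc (α := fun _ => V M x) (fun i => img x (s i)) (img x t)) → x ∈ F ∪ F') ∧
      ∀ Z : TopologicalSpace.IrreducibleCloseds (MaximalSpectrum R),
        (Z : Set (MaximalSpectrum R)) ⊆ F' → (k : ℕ∞) ≤ Order.coheight Z := by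
  classical
  intro k
  induction k with
  | zero =>
    intro h s F _ P _ w _ _
    obtain ⟨t, ht⟩ := exists_congr P w
    exact ⟨t, Set.univ, isClosed_univ, ht, fun x _ => Or.inr trivial, fun Z _ => by simp⟩
  | succ k ih =>
    intro h s F hF P hP w hdim hsF
    obtain ⟨s1, G, hG, hs1P, hs1Z, hGcod⟩ := ih h s F hF P hP w (fun x => by have := hdim x; omega) hsF
    obtain ⟨S0, hS0, hS0G⟩ := TopologicalSpace.NoetherianSpace.exists_finset_irreducible
      (⟨G, hG⟩ : TopologicalSpace.Closeds (MaximalSpectrum R))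
    have hGmem : ∀ x, x ∈ G ↔ ∃ K ∈ S0, x ∈ (K : Set (MaximalSpectrum R)) := by
      intro x
      have := congrArg (fun C : TopologicalSpace.Closeds (MaximalSpectrum R) => (C : Set (MaximalSpectrum R))) hS0G
      simp only [TopologicalSpace.Closeds.coe_finset_sup] at this
      change x ∈ G ↔ _
      rw [show G = _ from this]
      simp
    set S := S0.filter fun K : TopologicalSpace.Closeds (MaximalSpectrum R) => ¬ (K : Set (MaximalSpectrum R)) ⊆ F
    have hpick : ∀ K : S, ∃ y, y ∈ (K.1 : Set (MaximalSpectrum R)) ∧ y ∉ F := fun K =>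
      Set.not_subset.1 (Finset.mem_filter.1 K.2).2
    choose y hyK hyF using hpick
    set Y := Finset.univ.image y
    have hv : ∀ x : MaximalSpectrum R, ∃ v : M, x ∉ F → LinearIndependent (R ⧸ x.asIdeal)
        (Fin.snoc (α := fun _ => V M x) (fun i => img x (s i)) (img x v)) := by
      intro x
      by_cases hx : x ∈ F
      · exact ⟨0, fun h => absurd hx h⟩
      · obtain ⟨v, hv⟩ := exists_indep_snoc x s (not_not.1 fun hn => hx (hsF x hn))
          (by have := hdim x; omega)
        exact ⟨v, fun _ => hv⟩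
    choose v hv using hv
    obtain ⟨s2, H, hH, hs2P, hs2Z, hHcod⟩ := ih (h + 1) (Fin.snoc (α := fun _ => M) s s1) (F ∪ G)
      (hF.union hG) (P ∪ Y) (by
        rw [Finset.coe_union]
        refine Set.union_subset (hP.trans Set.subset_union_left) fun p hp => ?_
        obtain ⟨K, -, rfl⟩ := Finset.mem_image.1 hp
        exact Or.inr ((hGmem _).2 ⟨K.1, (Finset.mem_filter.1 K.2).1, hyK K⟩))
      (fun p => if p ∈ F then 0 else v p) (fun x => by have := hdim x; omega)
      (fun x hx => by rw [img_snoc] at hx; exact hs1Z x hx)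
    obtain ⟨T0, hT0, hT0H⟩ := TopologicalSpace.NoetherianSpace.exists_finset_irreducible
      (⟨H, hH⟩ : TopologicalSpace.Closeds (MaximalSpectrum R))
    have hHmem : ∀ x, x ∈ H ↔ ∃ K ∈ T0, x ∈ (K : Set (MaximalSpectrum R)) := by
      intro x
      have := congrArg (fun C : TopologicalSpace.Closeds (MaximalSpectrum R) => (C : Set (MaximalSpectrum R))) hT0H
      simp only [TopologicalSpace.Closeds.coe_finset_sup] at this
      change x ∈ H ↔ _
      rw [show H = _ from this]
      simp
    set T := T0.filter fun K : TopologicalSpace.Closeds (MaximalSpectrum R) => ¬ (K : Set (MaximalSpectrum R)) ⊆ F ∪ G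
    have hpick' : ∀ K : T, ∃ z, z ∈ (K.1 : Set (MaximalSpectrum R)) ∧ z ∉ F ∪ G := fun K =>
      Set.not_subset.1 (Finset.mem_filter.1 K.2).2
    choose z hzK hzFG using hpick'
    obtain ⟨f, hf⟩ := exists_scalar (Y ∪ Finset.univ.image z) (fun p =>
      if LinearIndependent (R ⧸ p.asIdeal)
        (Fin.snoc (α := fun _ => V M p) (fun i => img p (s i)) (img p s1)) then (0 : R) else 1)
    set Bad := {x : MaximalSpectrum R | ¬ LinearIndependent (R ⧸ x.asIdeal)
        (fun i => img x (Fin.snoc (α := fun _ => M) s (s1 + f • s2) i))} with hBad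
    set U := ⋃ K ∈ S ∪ T, (K : Set (MaximalSpectrum R)) with hU
    have hUc : IsClosed U := (S ∪ T).finite_toSet.isClosed_biUnion fun K _ => K.isClosed
    have himg : ∀ x, img x (s1 + f • s2) = img x s1 + Ideal.Quotient.mk x.asIdeal f • img x s2 := fun x => by
      rw [img_add, img_smul]
    -- the good points
    have hgood : ∀ x, x ∉ F → x ∉ G → x ∉ H → x ∉ Bad := by
      intro x hxF hxG hxH hx
      have h1 : LinearIndependent (R ⧸ x.asIdeal)
          (Fin.snoc (α := fun _ => V M x) (fun i => img x (s i)) (img x s1)) :=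
        not_not.1 fun hn => (hs1Z x hn).elim hxF hxG
      have h2 : LinearIndependent (R ⧸ x.asIdeal)
          (Fin.snoc (α := fun _ => V M x) (fun i => img x (Fin.snoc (α := fun _ => M) s s1 i)) (img x s2)) :=
        not_not.1 fun hn => (hs2Z x hn).elim (fun h => h.elim hxF hxG) hxH
      rw [linearIndependent_finSnoc] at h1 h2
      refine hx ?_
      rw [img_snoc, linearIndependent_finSnoc, himg]
      refine ⟨h1.1, fun hmem => ?_⟩
      by_cases hf0 : Ideal.Quotient.mk x.asIdeal f = 0
      · rw [hf0, zero_smul, add_zero] at hmem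
        exact h1.2 hmem
      · refine h2.2 ?_
        rw [← inv_smul_smul₀ hf0 (img x s2)]
        refine Submodule.smul_mem _ _ ?_
        rw [show Ideal.Quotient.mk x.asIdeal f • img x s2 =
          (img x s1 + Ideal.Quotient.mk x.asIdeal f • img x s2) - img x s1 by abel]
        refine sub_mem (Submodule.span_mono ?_ hmem) (Submodule.subset_span ⟨Fin.last h, by simp⟩)
        rintro _ ⟨i, rfl⟩
        exact ⟨i.castSucc, by simp⟩
    have hyok : ∀ K : S, y K ∉ Bad := by
      intro K hx
      have hyY : y K ∈ Y := Finset.mem_image_of_mem _ (Finset.mem_univ K)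
      have hfy := hf (y K) (Finset.mem_union_left _ hyY)
      have hs2y := hs2P (y K) (Finset.mem_union_right _ hyY)
      rw [if_neg (hyF K)] at hs2y
      refine hx ?_
      rw [img_snoc, himg, hfy, hs2y]
      by_cases hc : LinearIndependent (R ⧸ (y K).asIdeal)
          (Fin.snoc (α := fun _ => V M (y K)) (fun i => img (y K) (s i)) (img (y K) s1))
      · rw [if_pos hc, map_zero, zero_smul, add_zero]; exact hc
      · rw [if_neg hc, map_one, one_smul]
        have hvy := hv (y K) (hyF K)
        rw [linearIndependent_finSnoc] at hc hvy ⊢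
        refine ⟨hvy.1, fun hmem => hvy.2 ?_⟩
        have h3 : img (y K) s1 ∈ Submodule.span (R ⧸ (y K).asIdeal) (Set.range fun i => img (y K) (s i)) :=
          not_not.1 fun hn => hc ⟨hvy.1, hn⟩
        have := sub_mem hmem h3
        rwa [add_sub_cancel_left] at this
    have hzok : ∀ K : T, z K ∉ Bad := by
      intro K hx
      have hfz := hf (z K) (Finset.mem_union_right _ (Finset.mem_image_of_mem _ (Finset.mem_univ K)))
      have hc : LinearIndependent (R ⧸ (z K).asIdeal)
          (Fin.snoc (α := fun _ => V M (z K)) (fun i => img (z K) (s i)) (img (z K) s1)) :=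
        not_not.1 fun hn => hzFG K (hs1Z (z K) hn)
      refine hx ?_
      rw [img_snoc, himg, hfz, if_pos hc, map_zero, zero_smul, add_zero]
      exact hc
    refine ⟨s1 + f • s2, Bad ∩ U, (isClosed_not_indep _).inter hUc, fun p hp => ?_, fun x hx => ?_, fun Z hZ => ?_⟩
    · rw [himg, hs2P p (Finset.mem_union_left _ hp), if_pos (hP hp), img_zero, smul_zero, add_zero]
      exact hs1P p hp
    · have hxBad : x ∈ Bad := by rw [hBad, Set.mem_setOf_eq, img_snoc]; exact hx
      by_cases hxF : x ∈ F
      · exact Or.inl hxF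
      refine Or.inr ⟨hxBad, ?_⟩
      by_cases hxG : x ∈ G
      · obtain ⟨K, hK, hxK⟩ := (hGmem x).1 hxG
        exact Set.mem_biUnion (Finset.mem_union_left _ (Finset.mem_filter.2 ⟨hK, fun hs => hxF (hs hxK)⟩)) hxK
      · obtain ⟨K, hK, hxK⟩ := (hHmem x).1 (not_not.1 fun hxH => hgood x hxF hxG hxH hxBad)
        exact Set.mem_biUnion (Finset.mem_union_right _ (Finset.mem_filter.2
          ⟨hK, fun hs => (hs hxK).elim hxF hxG⟩)) hxK
    · obtain ⟨C, hC, hZC⟩ := isIrreducible_iff_sUnion_isClosed.1 Z.isIrreducible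
        ((S ∪ T).image fun K : TopologicalSpace.Closeds (MaximalSpectrum R) => (K : Set (MaximalSpectrum R)))
        (fun C hC => by
          obtain ⟨K, -, rfl⟩ := Finset.mem_image.1 hC
          exact K.isClosed)
        (fun x hx => by
          obtain ⟨K, hK, hxK⟩ := Set.mem_iUnion₂.1 (hZ hx).2
          exact Set.mem_sUnion.2 ⟨K, Finset.mem_coe.2 (Finset.mem_image_of_mem _ hK), hxK⟩)
      obtain ⟨K, hK, rfl⟩ := Finset.mem_image.1 hC
      rcases Finset.mem_union.1 hK with hKS | hKT
      · let K' : TopologicalSpace.IrreducibleCloseds (MaximalSpectrum R) :=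
          ⟨K, hS0 ⟨K, (Finset.mem_filter.1 hKS).1⟩, K.isClosed⟩
        have hlt : Z < K' := lt_of_le_of_ne hZC fun he => hyok ⟨K, hKS⟩
          ((hZ (he ▸ (show y ⟨K, hKS⟩ ∈ (K' : Set (MaximalSpectrum R)) from hyK ⟨K, hKS⟩))).1)
        refine le_trans ?_ (Order.coheight_add_one_le hlt)
        rw [Nat.cast_succ]
        gcongr
        exact hGcod K' fun x hx => (hGmem x).2 ⟨K, (Finset.mem_filter.1 hKS).1, hx⟩
      · let K' : TopologicalSpace.IrreducibleCloseds (MaximalSpectrum R) :=
          ⟨K, hT0 ⟨K, (Finset.mem_filter.1 hKT).1⟩, K.isClosed⟩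
        have hlt : Z < K' := lt_of_le_of_ne hZC fun he => hzok ⟨K, hKT⟩
          ((hZ (he ▸ (show z ⟨K, hKT⟩ ∈ (K' : Set (MaximalSpectrum R)) from hzK ⟨K, hKT⟩))).1)
        refine le_trans ?_ (Order.coheight_add_one_le hlt)
        rw [Nat.cast_succ]
        gcongr
        exact hHcod K' fun x hx => (hHmem x).2 ⟨K, (Finset.mem_filter.1 hKT).1, hx⟩

end Groth.Agent.SerreSplit
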